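import Groth.Agent.H23.CompleteInt.Linear
import Groth.Agent.H78.PrincipalAlg.Linear
import Groth.Agent.Lib.LocalCoh.Nonvanishing
import Groth.Agent.Lib.LCFin.Nonvanishing
import Groth.Agent.Lib.Exchange.LocalRep
import Groth.Agent.Lib.Ideal.Prime
import Groth.Agent.Lib.VarDim.Basic
import Groth.Agent.Lib.TensorMod.TensorQCoh
import Groth.Agent.S0222

/-!
Removing an isolated point of the complement: top degree cohomology of the open is infinite.
-/

set_option autoImplicit false
set_option linter.style.haveILetI false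
set_option maxHeartbeats 1000000

universe u

open CategoryTheory CategoryTheory.Limits AlgebraicGeometry TopologicalSpace Opposite

attribute [local instance] HasDerivedCategory.standard

namespace Groth.Agent.H23.CompleteInt

open Groth.Agent.Lib

/-- Top local cohomology at a maximal ideal of height `dim A` of a domain is not finite. -/
theorem not_finite_lc {A : Type u} [CommRing A] [IsDomain A] [IsNoetherianRing A] (p : Ideal A)
    [p.IsMaximal] (d : ℕ) (hd : ringKrullDim A ≤ (d + 1 : ℕ)) (hp : (p.height : WithBot ℕ∞) = ((d + 1 : ℕ) : WithBot ℕ∞)) :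
    ¬ Module.Finite A ((localCohomology p (d + 1)).obj (ModuleCat.of A A)) := by
  have hne : p ≠ ⊥ := by
    rintro rfl
    rw [Ideal.height_bot] at hp
    exact absurd hp.symm (by norm_cast)
  obtain ⟨x, hx, hx0⟩ := Submodule.exists_mem_ne_zero_of_ne_bot hne
  have hnt : Nontrivial ((localCohomology p (d + 1)).obj (ModuleCat.of A A)) := by
    by_contra h
    rw [not_nontrivial_iff_subsingleton] at h
    have hs : Subsingleton (LocCoh.H p (d + 1) A) := h
    obtain ⟨e⟩ := LocalCoh.nonempty_lc_localizedModule_equiv p p.primeCompl A (d + 1)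
    haveI : Subsingleton (LocalizedModule p.primeCompl (LocCoh.H p (d + 1) A)) :=
      subsingleton_of_forall_eq 0 fun z => by
        induction z using LocalizedModule.induction_on with
        | h m s => rw [Subsingleton.elim m 0, LocalizedModule.zero_mk]
    have h2 : Subsingleton (LocCoh.H (p.map (algebraMap A (Localization.AtPrime p))) (d + 1)
        (LocalizedModule p.primeCompl A)) := e.toEquiv.symm.subsingleton
    rw [Localization.AtPrime.map_eq_maximalIdeal] at h2
    haveI : IsNoetherianRing (Localization.AtPrime p) := IsLocalization.isNoetherianRing p.primeCompl _ inferInstance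
    haveI : Module.Finite (Localization.AtPrime p) (LocalizedModule p.primeCompl A) :=
      inferInstanceAs (Module.Finite (Localization.AtPrime p) (Localization.AtPrime p))
    have hdim : Module.supportDim (Localization.AtPrime p) (LocalizedModule p.primeCompl A) =
        ((d + 1 : ℕ) : WithBot ℕ∞) := by
      show Module.supportDim (Localization.AtPrime p) (Localization.AtPrime p) = _
      rw [Module.supportDim_self_eq_ringKrullDim, IsLocalization.AtPrime.ringKrullDim_eq_height p, hp]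
    haveI := h2
    exact not_subsingleton_iff_nontrivial.2
      (LCFin.Nonvanishing.nontrivial_and_not_finite (d + 1) _ hdim).1 h2
  refine LocalCoh.lc_not_finite_of_regular p (ModuleCat.of A A) (d + 1) hx
    (fun a b h => mul_left_cancel₀ hx0 h) ?_ hnt
  have h1 : ringKrullDim (A ⧸ Ideal.span {x}) + 1 ≤ ((d + 1 : ℕ) : WithBot ℕ∞) :=
    (ringKrullDim_quotient_succ_le_of_nonZeroDivisor (mem_nonZeroDivisors_of_ne_zero hx0)).trans hd
  have h2 : Module.supportDim A (QuotSMulTop x A) = ringKrullDim (A ⧸ Ideal.span {x}) := by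
    rw [← Module.supportDim_quotient_eq_ringKrullDim]
    refine Module.supportDim_eq_of_equiv (Submodule.quotEquivOfEq _ _ ?_)
    rw [← Submodule.ideal_span_singleton_smul, smul_eq_mul, Ideal.mul_top]
  show Module.supportDim A (QuotSMulTop x A) < _
  rw [h2]
  generalize ringKrullDim (A ⧸ Ideal.span {x}) = w at h1
  induction w with
  | bot => exact WithBot.bot_lt_coe _
  | coe w =>
    have h3 : w + 1 ≤ ((d + 1 : ℕ) : ℕ∞) := by exact_mod_cast h1
    induction w with
    | top => exact absurd h3 (by simp)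
    | coe w =>
      have h4 : w + 1 ≤ d + 1 := by exact_mod_cast h3
      exact_mod_cast (show w < d + 1 by omega)

/-- The structure module restricted to a punctured affine open. -/
theorem nonempty_iso_Θ {W : Scheme.{u}} {A : Type u} [CommRing A] (O : (Spec (CommRingCat.of A)).Opens)
    (j : (O : Scheme.{u}) ⟶ W) [IsOpenImmersion j] :
    Nonempty ((Coh.structureModule W).restrict j ≅
      (Groth.Agent.H78.Formal.SectTower.Θ O).obj (ModuleCat.of A A)) :=
  ⟨(Scheme.Modules.restrictFunctorIsoPullback j).app _ ≪≫ PicLoc.pullbackStructureIso j ≪≫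
    (PicLoc.pullbackStructureIso O.ι).symm ≪≫ ((Scheme.Modules.restrictFunctorIsoPullback O.ι).app _).symm ≪≫
      (Scheme.Modules.restrictFunctor O.ι).mapIso (tildeSelf (R := CommRingCat.of A)).symm⟩

/-- If `P` is a closed point outside the open `V` of the variety `W` of dimension `m + 2`, with an affine
neighbourhood inside `V ∪ {P}`, then `H^(m+1)(V, O)` is infinite dimensional. -/
theorem not_finite_HH (k : Type u) [Field k] {W : Scheme.{u}} [W.Over (Spec (CommRingCat.of k))]
    [IsSeparated (W ↘ Spec (CommRingCat.of k))] [LocallyOfFiniteType (W ↘ Spec (CommRingCat.of k))]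
    [QuasiCompact (W ↘ Spec (CommRingCat.of k))] [IsIntegral W] {m : ℕ}
    (hd : topologicalKrullDim W = ((m + 2 : ℕ) : WithBot ℕ∞)) (V W₀ : W.Opens) (hW₀ : IsAffineOpen W₀)
    (P : W) (hP : IsClosed ({P} : Set W)) (hPV : P ∉ V) (hPW : P ∈ W₀)
    (hiso : ∀ x ∈ W₀, x ∈ V ∨ x = P) :
    ¬ Module.Finite k (Coh.HH (V : Scheme.{u}) ((Coh.structureModule W).restrict V.ι) (m + 1)) := by
  intro hVfin
  let q := W ↘ Spec (CommRingCat.of k)
  haveI : IsLocallyNoetherian W := LocallyOfFiniteType.isLocallyNoetherian q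
  haveI : CompactSpace W := QuasiCompact.compactSpace_of_compactSpace q
  haveI : AlgebraicGeometry.IsNoetherian W := {}
  haveI : Nonempty W₀ := ⟨⟨P, hPW⟩⟩
  let A := Γ(W, W₀)
  haveI : IsDomain A := inferInstance
  haveI : IsNoetherianRing A := IsLocallyNoetherian.component_noetherian ⟨W₀, hW₀⟩
  let j₀ : Spec A ⟶ W := hW₀.fromSpec
  let pt : PrimeSpectrum A := hW₀.primeIdealOf ⟨P, hPW⟩
  have hpt : j₀ pt = P := hW₀.fromSpec_primeIdealOf ⟨P, hPW⟩
  haveI hmax : pt.asIdeal.IsMaximal := by
    rw [← PrimeSpectrum.isClosed_singleton_iff_isMaximal]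
    have : ({pt} : Set (Spec A)) = j₀ ⁻¹' {P} := by
      ext z
      exact ⟨fun h => (show z = pt from h) ▸ hpt, fun h => j₀.isOpenEmbedding.injective (h.trans hpt.symm)⟩
    exact this ▸ hP.preimage j₀.continuous
  let Ua : (Spec A).Opens := PuncturedLC.U pt.asIdeal
  have hUa : ∀ z : Spec A, z ∈ Ua ↔ z ≠ pt := by
    intro z
    show ¬ (pt.asIdeal : Set A) ⊆ z.asIdeal ↔ _
    refine not_congr ⟨fun h => PrimeSpectrum.ext (hmax.eq_of_le z.2.ne_top h).symm, fun h => by rw [h]⟩
  let j₁ : (Ua : Scheme.{u}) ⟶ W := Ua.ι ≫ j₀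
  have hO : j₁.isOpenEmbedding.functor.obj ⊤ = V ⊓ W₀ := by
    ext w
    constructor
    · rintro ⟨z, -, rfl⟩
      have hz := (hUa _).1 z.2
      have hw : j₀ (Ua.ι z) ∈ W₀ := hW₀.range_fromSpec.le ⟨_, rfl⟩
      exact ⟨(hiso _ hw).resolve_right fun h => hz (j₀.isOpenEmbedding.injective (h.trans hpt.symm)), hw⟩
    · rintro ⟨h1, h2⟩
      obtain ⟨z, rfl⟩ := hW₀.range_fromSpec.ge h2
      exact ⟨⟨z, (hUa z).2 fun h => hPV (hpt ▸ h ▸ h1)⟩, trivial, rfl⟩
  -- the structures over the field
  let φ : CommRingCat.of k ⟶ A := Spec.preimage (j₀ ≫ q)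
  have hφ : Spec.map φ = j₀ ≫ q := Spec.map_preimage _
  letI : (Ua : Scheme.{u}).Over (Spec (CommRingCat.of k)) := ⟨j₁ ≫ q⟩
  let V' : W.Opens := V ⊔ W₀
  have hV' : topologicalKrullDim (V' : Scheme.{u}) = ((m + 2 : ℕ) : WithBot ℕ∞) := by
    haveI : Nonempty (V' : Scheme.{u}) := ⟨⟨P, Or.inr hPW⟩⟩
    refine le_antisymm ((V'.ι.isOpenEmbedding.isInducing.topologicalKrullDim_le).trans hd.le) ?_
    rw [← hd, VarDim.Basic.topologicalKrullDim_irreducibleSpace q]
    refine (VarDim.Basic.pdim_le_topologicalKrullDim q (T := (V' : Set W)) V'.2.isLocallyClosed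
      (show genericPoint W ∈ V' from ((genericPoint_spec W).mem_open_set_iff V'.2).2
        ⟨P, trivial, Or.inr hPW⟩))
  haveI : IsLocallyNoetherian (V' : Scheme.{u}) := isLocallyNoetherian_of_isOpenImmersion V'.ι
  haveI : IsSeparated (V'.toScheme ↘ Spec (CommRingCat.of k)) :=
    inferInstanceAs (IsSeparated (V'.ι ≫ q))
  haveI : LocallyOfFiniteType (V'.toScheme ↘ Spec (CommRingCat.of k)) :=
    inferInstanceAs (LocallyOfFiniteType (V'.ι ≫ q))
  haveI : QuasiCompact (V'.toScheme ↘ Spec (CommRingCat.of k)) :=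
    inferInstanceAs (QuasiCompact (V'.ι ≫ q))
  haveI hfin' : Module.Finite k
      (Coh.HH (V' : Scheme.{u}) ((Coh.structureModule W).restrict V'.ι) (m + 2)) :=
    Groth.Agent.S0222.result k (V' : Scheme.{u}) _
      (RefHull.LocFree.isCoh_restrict (Snapper.Twist.isCoh_structureModule W) V') (m + 2) hV'
  -- the two linear maps
  let M := Coh.structureModule W
  have hOV : V.ι.isOpenEmbedding.functor.obj ⊤ = V :=
    (Scheme.Hom.image_top_eq_opensRange V.ι).trans V.opensRange_ι
  let rV : Coh.HH (V : Scheme.{u}) (M.restrict V.ι) (m + 1) →ₗ[k]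
      Coh.HH (Ua : Scheme.{u}) (M.restrict j₁) (m + 1) :=
    conj M V.ι j₁ rfl rfl hOV hO (m + 1) (m + 1)
      (CohTop.res (X := W.carrier) (Coh.toAb M) (m + 1) (inf_le_left : V ⊓ W₀ ≤ V))
      (fun a x => res_act M a (m + 1) _ x)
  let D : Coh.HH (Ua : Scheme.{u}) (M.restrict j₁) (m + 1) →ₗ[k]
      Coh.HH (V' : Scheme.{u}) (M.restrict V'.ι) (m + 1 + 1) :=
    conj M j₁ V'.ι rfl rfl hO ((Scheme.Hom.image_top_eq_opensRange V'.ι).trans V'.opensRange_ι)
      (m + 1) (m + 1 + 1) (Cech.MV.δ (X := W.carrier) (Coh.toAb M) V W₀ (m + 1) (m + 1 + 1) rfl)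
      (fun a x => δ_act M a (m + 1) V W₀ x)
  have hker : LinearMap.ker D ≤ LinearMap.range rV := by
    intro x hx
    have h0 : Cech.MV.δ (X := W.carrier) (Coh.toAb M) V W₀ (m + 1) (m + 1 + 1) rfl
        (onEquiv M j₁ hO (m + 1) x) = 0 := (AddEquiv.map_eq_zero_iff _).1 (LinearMap.mem_ker.1 hx)
    obtain ⟨a, b, hab⟩ := Cech.MV.exists_sub_eq (X := W.carrier) (Coh.toAb M) V W₀ (m + 1) _ h0
    haveI : M.IsQuasicoherent := (Snapper.Twist.isCoh_structureModule W).1
    haveI : Subsingleton (CohTop.HU (X := W.carrier) (Coh.toAb M) (m + 1) W₀) :=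
      ZarCoh.Affine.HU_subsingleton M hW₀ m
    rw [Subsingleton.elim b 0, map_zero, sub_zero] at hab
    refine ⟨(onEquiv M V.ι hOV (m + 1)).symm a, ?_⟩
    show (onEquiv M j₁ hO (m + 1)).symm
      (CohTop.res _ _ _ (onEquiv M V.ι hOV (m + 1) ((onEquiv M V.ι hOV (m + 1)).symm a))) = x
    rw [AddEquiv.apply_symm_apply, AddEquiv.symm_apply_eq]
    exact hab
  haveI hfin : Module.Finite k (Coh.HH (Ua : Scheme.{u}) (M.restrict j₁) (m + 1)) := by
    haveI := hVfin
    haveI : Module.Finite k (LinearMap.range rV) := inferInstance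
    haveI : Module.Finite k (LinearMap.ker D) :=
      Module.Finite.of_injective (Submodule.inclusion hker) (Submodule.inclusion_injective hker)
    haveI hV2 : Module.Finite k (Coh.HH (V' : Scheme.{u}) (M.restrict V'.ι) (m + 1 + 1)) := hfin'
    haveI : IsNoetherian k (Coh.HH (V' : Scheme.{u}) (M.restrict V'.ι) (m + 1 + 1)) :=
      isNoetherian_of_isNoetherianRing_of_finite k _
    haveI : Module.Finite k (LinearMap.range D) :=
      Module.Finite.iff_fg.2 (IsNoetherian.noetherian (LinearMap.range D))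
    haveI : Module.Finite k (Coh.HH (Ua : Scheme.{u}) (M.restrict j₁) (m + 1) ⧸ LinearMap.ker D) :=
      Module.Finite.equiv D.quotKerEquivRange.symm
    exact Module.Finite.of_submodule_quotient (LinearMap.ker D)
  obtain ⟨e⟩ := nonempty_iso_Θ Ua j₁
  let N := (Groth.Agent.H78.Formal.SectTower.Θ Ua).obj (ModuleCat.of A A)
  haveI : Module.Finite k (Coh.HH (Ua : Scheme.{u}) N (m + 1)) :=
    Module.Finite.equiv (Curves.LES.isoK k e (m + 1))
  letI : Algebra k A := φ.hom.toAlgebra
  haveI : IsScalarTower k A (Coh.HH (Ua : Scheme.{u}) N (m + 1)) :=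
    IsScalarTower.of_algebraMap_smul fun c x => by
      show Coh.toGlobal ((Ua : Scheme.{u}) ↘ Spec (CommRingCat.of A)) (φ c) • x =
        Coh.toGlobal (j₁ ≫ q) c • x
      refine congrArg (fun t : Coh.Γtop (Ua : Scheme.{u}) => t • x) ?_
      rw [show j₁ ≫ q = Ua.ι ≫ Spec.map φ by rw [hφ]; exact Category.assoc _ _ _]
      exact (ZarCoh.Exchange.LocalRep.toGlobal_comp φ Ua.ι c).symm
  haveI : Module.Finite A (Coh.HH (Ua : Scheme.{u}) N (m + 1)) :=
    Module.Finite.of_restrictScalars_finite k A _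
  have hκ : Function.Surjective
      (Groth.Agent.H78.PrincipalAlg.Linear.κ pt.asIdeal (ModuleCat.of A A) (m + 1)) := fun y => by
    obtain ⟨z, hz⟩ := (PuncturedLC.ψ_bijective pt.asIdeal A m).2 ((PuncturedLC.toLC pt.asIdeal A (m + 2)).symm y)
    refine ⟨(Groth.Agent.H78.PrincipalAlg.Linear.toHV pt.asIdeal (ModuleCat.of A A) (m + 1)).symm z, ?_⟩
    show PuncturedLC.toLC pt.asIdeal A (m + 1 + 1) (PuncturedLC.ψ pt.asIdeal A (m + 1) _) = y
    erw [AddEquiv.apply_symm_apply]
    exact (congrArg (PuncturedLC.toLC pt.asIdeal A (m + 2)) hz).trans (LinearEquiv.apply_symm_apply _ y)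
  have hAdim : ringKrullDim A ≤ ((m + 2 : ℕ) : WithBot ℕ∞) := by
    rw [← PrimeSpectrum.topologicalKrullDim_eq_ringKrullDim]
    exact j₀.isOpenEmbedding.isInducing.topologicalKrullDim_le.trans hd.le
  have hht : ((pt.asIdeal.height : ℕ∞) : WithBot ℕ∞) = ((m + 2 : ℕ) : WithBot ℕ∞) := by
    rw [← Ideal.Prime.ringKrullDim_stalk_eq_height hW₀ hPW,
      Cyc.DimFun.ringKrullDim_stalk (Cyc.FieldDim.isDimFun_fdelta q) P, VarDim.Basic.fdelta_eq,
      VarDim.Basic.fdelta_eq, (VarDim.Basic.pdim_eq_zero_iff q P).2 hP]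
    rw [VarDim.Basic.topologicalKrullDim_irreducibleSpace q] at hd
    rw [show VarDim.Basic.pdim q (genericPoint W) = m + 2 by exact_mod_cast hd]
    simp only [Nat.cast_zero, sub_zero, Int.toNat_natCast]
  exact not_finite_lc pt.asIdeal (m + 1) hAdim hht
    (Module.Finite.of_surjective (Groth.Agent.H78.PrincipalAlg.Linear.κ pt.asIdeal (ModuleCat.of A A) (m + 1)) hκ)

end Groth.Agent.H23.CompleteInt
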