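import Groth.Agent.H23.CompleteInt.Core
import Groth.Agent.Lib.CohDelta.DevApps
import Groth.Agent.Lib.Devissage.Closure
import Groth.Agent.Lib.Devissage.Dim
import Groth.Agent.Lib.CohDelta.IdealMul.FinPush
import Groth.Agent.Lib.ZarCoh.Linear

/-!
An open whose complement has a component of dimension `e` has coherent modules with infinite
cohomology in some degree `≥ n - e - 1`.
-/

set_option autoImplicit false
set_option linter.style.haveILetI false
set_option maxHeartbeats 1000000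

universe u

open CategoryTheory CategoryTheory.Limits AlgebraicGeometry TopologicalSpace Opposite

namespace Groth.Agent.H23.CompleteInt

open Groth.Agent.Lib

variable {k : Type u} [Field k] {X : Scheme.{u}} (q : X ⟶ Spec (CommRingCat.of k)) [LocallyOfFiniteType q]

theorem mem_basicOpen_iff_fromSpec {V : X.Opens} (hV : IsAffineOpen V) (p : PrimeSpectrum Γ(X, V)) (f : Γ(X, V)) :
    hV.fromSpec p ∈ X.basicOpen f ↔ f ∉ p.asIdeal := by
  show p ∈ hV.fromSpec ⁻¹ᵁ X.basicOpen f ↔ _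
  rw [hV.fromSpec_preimage_basicOpen]
  rfl

include q in
/-- Cutting down the dimension at a closed point by functions vanishing there. -/
theorem exists_cut [AlgebraicGeometry.IsNoetherian X] {V : X.Opens} (hV : IsAffineOpen V) {P : X}
    (hPV : P ∈ V) (hP : IsClosed ({P} : Set X)) :
    ∀ (j : ℕ) (T : Set X), IsClosed T → (∀ x ∈ T, x ∈ V → VarDim.Basic.pdim q x ≤ j) →
      ∃ t : Finset Γ(X, V), t.card ≤ j ∧ (∀ f ∈ t, f ∈ (hV.primeIdealOf ⟨P, hPV⟩).asIdeal) ∧
        ∀ x ∈ T, x ∈ V → (∀ f ∈ t, x ∉ X.basicOpen f) → VarDim.Basic.pdim q x = 0 := by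
  classical
  intro j
  induction j with
  | zero =>
    exact fun T _ h => ⟨∅, by simp, by simp, fun x hx hxV _ => by have := h x hx hxV; omega⟩
  | succ j ih =>
    intro T hT hdim
    let S : Set X := {x | (x ∈ T ∧ ∀ z ∈ T, z ⤳ x → z = x) ∧ x ∈ V ∧ x ≠ P}
    have hS : S.Finite := (Devissage.Dim.finite_maximal hT).subset fun x hx => hx.1
    let pr : X → Ideal Γ(X, V) := fun x => if h : x ∈ V then (hV.primeIdealOf ⟨x, h⟩).asIdeal else ⊥
    let IP := (hV.primeIdealOf ⟨P, hPV⟩).asIdeal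
    have hnot : ¬ ((IP : Set Γ(X, V)) ⊆ ⋃ x ∈ (↑hS.toFinset : Set X), pr x) := by
      rw [Ideal.subset_union_prime P P fun x hx _ _ => by
        obtain ⟨-, hxV, -⟩ := hS.mem_toFinset.1 hx
        simp only [pr, dif_pos hxV]
        exact (hV.primeIdealOf ⟨x, hxV⟩).2]
      rintro ⟨x, hx, hle⟩
      obtain ⟨-, hxV, hxP⟩ := hS.mem_toFinset.1 hx
      simp only [pr, dif_pos hxV] at hle
      have h1 : (hV.primeIdealOf ⟨P, hPV⟩) ⤳ (hV.primeIdealOf ⟨x, hxV⟩) :=
        (PrimeSpectrum.le_iff_specializes _ _).1 hle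
      have h2 := h1.map hV.fromSpec.continuous
      rw [hV.fromSpec_primeIdealOf, hV.fromSpec_primeIdealOf] at h2
      exact hxP (h2.mem_closed hP rfl)
    obtain ⟨f, hfP, hf⟩ := Set.not_subset.1 hnot
    obtain ⟨t, ht, htP, htd⟩ := ih (T ∩ (X.basicOpen f : Set X)ᶜ) (hT.inter (X.basicOpen f).2.isClosed_compl)
      fun x hx hxV => by
        rcases eq_or_ne x P with rfl | hxP
        · rw [(VarDim.Basic.pdim_eq_zero_iff q x).2 hP]; exact Nat.zero_le _
        obtain ⟨z, hz, hzx, hmax⟩ := Ideal.Prime.exists_maximal_generization hT hx.1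
        have hzV : z ∈ V := hzx.mem_open V.2 hxV
        have hzP : z ≠ P := fun h => hxP ((h ▸ hzx).mem_closed hP rfl)
        have hzf : z ∈ X.basicOpen f := by
          have h3 : f ∉ pr z := fun h => hf (Set.mem_iUnion₂.2
            ⟨z, hS.mem_toFinset.2 ⟨⟨hz, hmax⟩, hzV, hzP⟩, h⟩)
          simp only [pr, dif_pos hzV] at h3
          have h4 := (mem_basicOpen_iff_fromSpec hV _ f).2 h3
          rwa [hV.fromSpec_primeIdealOf] at h4
        have := VarDim.Basic.pdim_lt q hzx fun h => hx.2 (h ▸ hzf)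
        have := hdim z hz hzV
        omega
    refine ⟨insert f t, (Finset.card_insert_le f t).trans (by omega), ?_, fun x hx hxV hxf => ?_⟩
    · intro g hg
      rcases Finset.mem_insert.1 hg with rfl | hg
      · exact hfP
      · exact htP g hg
    · exact htd x ⟨hx, hxf f (Finset.mem_insert_self f t)⟩ hxV fun g hg => hxf g (Finset.mem_insert_of_mem hg)

/-- The main lemma. -/
theorem exists_not_finite (k : Type u) [Field k] {X : Scheme.{u}} [X.Over (Spec (CommRingCat.of k))]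
    [IsSeparated (X ↘ Spec (CommRingCat.of k))] [LocallyOfFiniteType (X ↘ Spec (CommRingCat.of k))]
    [QuasiCompact (X ↘ Spec (CommRingCat.of k))] [IsIntegral X] {n : ℕ}
    (hdim : topologicalKrullDim X = n) (U : X.Opens) (η : X) (hη : η ∉ U)
    (hmax : ∀ y, y ∉ U → y ⤳ η → y = η) {e : ℕ}
    (he : VarDim.Basic.pdim (X ↘ Spec (CommRingCat.of k)) η = e) (hen : e + 2 ≤ n) :
    ∃ m : ℕ, n ≤ m + 2 + e ∧ ∃ F : (U : Scheme.{u}).Modules, Coh.IsCoh F ∧
      ¬ Module.Finite k (Coh.HH (U : Scheme.{u}) F (m + 1)) := by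
  classical
  let q := X ↘ Spec (CommRingCat.of k)
  haveI : IsLocallyNoetherian X := LocallyOfFiniteType.isLocallyNoetherian q
  haveI : CompactSpace X := QuasiCompact.compactSpace_of_compactSpace q
  haveI : AlgebraicGeometry.IsNoetherian X := {}
  haveI : JacobsonSpace X := LocallyOfFiniteType.jacobsonSpace q
  have hY : IsClosed ((U : Set X)ᶜ) := U.2.isClosed_compl
  -- a closed point only on the component of `η`
  let S : Set X := {x | (x ∈ (U : Set X)ᶜ ∧ ∀ z ∈ (U : Set X)ᶜ, z ⤳ x → z = x) ∧ x ≠ η}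
  have hS : S.Finite := (Devissage.Dim.finite_maximal hY).subset fun x hx => hx.1
  let O : X.Opens := ⟨(⋃ x ∈ S, closure ({x} : Set X))ᶜ,
    (hS.isClosed_biUnion fun _ _ => isClosed_closure).isOpen_compl⟩
  have hηO : η ∈ O := by
    intro h
    obtain ⟨y, hy, hy'⟩ := Set.mem_iUnion₂.1 h
    exact hy.2 (hmax y hy.1.1 (specializes_iff_mem_closure.2 hy'))
  obtain ⟨P, ⟨hPη, hPO⟩, hPc⟩ := nonempty_inter_closedPoints
    (Z := closure ({η} : Set X) ∩ O) ⟨η, subset_closure rfl, hηO⟩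
    (isClosed_closure.isLocallyClosed.inter O.2.isLocallyClosed)
  rw [mem_closedPoints_iff] at hPc
  obtain ⟨V, hV, hPV, hVO⟩ := exists_isAffineOpen_mem_and_subset (U := O) hPO
  have honly : ∀ x ∈ V, x ∉ U → η ⤳ x := by
    intro x hxV hxU
    obtain ⟨z, hz, hzx, hzm⟩ := Ideal.Prime.exists_maximal_generization hY hxU
    by_cases h : z = η
    · exact h ▸ hzx
    · exact absurd (Set.mem_iUnion₂.2 ⟨z, ⟨⟨hz, hzm⟩, h⟩, specializes_iff_mem_closure.1 hzx⟩) (hVO hxV)
  have hPU : P ∉ U := fun h => hη (((specializes_iff_mem_closure.2 hPη)).mem_open U.2 h)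
  -- cut
  obtain ⟨t, ht, htP, htd⟩ := exists_cut q hV hPV hPc e (U : Set X)ᶜ hY fun x hx hxV =>
    he ▸ VarDim.Basic.pdim_le q (honly x hxV hx)
  haveI : IsNoetherianRing Γ(X, V) := IsLocallyNoetherian.component_noetherian ⟨V, hV⟩
  let pP := hV.primeIdealOf ⟨P, hPV⟩
  obtain ⟨p, hp, hple⟩ := Ideal.exists_minimalPrimes_le
    (show Ideal.span (t : Set Γ(X, V)) ≤ pP.asIdeal from Ideal.span_le.2 fun f hf => htP f hf)
  let ξ : X := hV.fromSpec ⟨p, hp.1.1⟩
  have hξV : ξ ∈ V := hV.range_fromSpec.le ⟨_, rfl⟩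
  have hξP : ξ ⤳ P := by
    have h1 : (⟨p, hp.1.1⟩ : PrimeSpectrum Γ(X, V)) ⤳ pP := (PrimeSpectrum.le_iff_specializes _ _).1 hple
    have h2 := h1.map hV.fromSpec.continuous
    rwa [hV.fromSpec_primeIdealOf] at h2
  have hξdim : n ≤ VarDim.Basic.pdim q ξ + e := by
    have h1 := Ideal.height_le_card_of_mem_minimalPrimes_span_finset hp
    have h3 := Ideal.Prime.ringKrullDim_stalk_eq_height hV hξV
    rw [Cyc.DimFun.ringKrullDim_stalk (Cyc.FieldDim.isDimFun_fdelta q) ξ, VarDim.Basic.fdelta_eq,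
      VarDim.Basic.fdelta_eq] at h3
    have h4 : (hV.primeIdealOf ⟨ξ, hξV⟩) = (⟨p, hp.1.1⟩ : PrimeSpectrum Γ(X, V)) :=
      hV.fromSpec.isOpenEmbedding.injective (hV.fromSpec_primeIdealOf ⟨ξ, hξV⟩)
    rw [h4] at h3
    have h5 : p.height = (((VarDim.Basic.pdim q (genericPoint X) : ℤ) -
        VarDim.Basic.pdim q ξ).toNat : ℕ∞) := by exact_mod_cast h3.symm
    rw [h5] at h1
    have h6 : ((VarDim.Basic.pdim q (genericPoint X) : ℤ) - VarDim.Basic.pdim q ξ).toNat ≤ t.card := by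
      exact_mod_cast h1
    have h7 : VarDim.Basic.pdim q (genericPoint X) = n := by
      exact_mod_cast (VarDim.Basic.topologicalKrullDim_irreducibleSpace q).symm.trans hdim
    omega
  obtain ⟨m, hm⟩ : ∃ m, VarDim.Basic.pdim q ξ = m + 2 := ⟨VarDim.Basic.pdim q ξ - 2, by omega⟩
  -- the subvariety
  obtain ⟨hint, -⟩ := CohDelta.DevApps.isIntegral_ptIdeal (X := X) ξ
  haveI := hint
  let W := (IntMult.ptIdeal ξ).subscheme
  let ι : W ⟶ X := (IntMult.ptIdeal ξ).subschemeι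
  have hrange : Set.range ι = closure ({ξ} : Set X) := Devissage.Closure.range_ptIdeal ξ
  letI : W.Over (Spec (CommRingCat.of k)) := ⟨ι ≫ q⟩
  haveI : IsSeparated (W ↘ Spec (CommRingCat.of k)) := inferInstanceAs (IsSeparated (ι ≫ q))
  haveI : LocallyOfFiniteType (W ↘ Spec (CommRingCat.of k)) := inferInstanceAs (LocallyOfFiniteType (ι ≫ q))
  haveI : QuasiCompact (W ↘ Spec (CommRingCat.of k)) := inferInstanceAs (QuasiCompact (ι ≫ q))
  haveI : IsLocallyNoetherian W := LocallyOfFiniteType.isLocallyNoetherian (ι ≫ q)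
  have hW : topologicalKrullDim W = ((m + 2 : ℕ) : WithBot ℕ∞) := by
    rw [← hm, ← VarDim.Basic.topologicalKrullDim_isGenericPoint q (isGenericPoint_closure : IsGenericPoint ξ _),
      ← hrange]
    exact (ι.isClosedEmbedding.toIsEmbedding.toHomeomorph).isHomeomorph.topologicalKrullDim_eq
  obtain ⟨P', hP'⟩ : P ∈ Set.range ι := hrange.ge (specializes_iff_mem_closure.1 hξP)
  -- the finitely many other points
  let R : Set X := {x | x ∈ closure ({ξ} : Set X) ∧ x ∈ V ∧ x ∉ U ∧ x ≠ P}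
  have hR0 : ∀ x, x ∈ closure ({ξ} : Set X) → x ∈ V → x ∉ U → VarDim.Basic.pdim q x = 0 := by
    intro x hx hxV hxU
    refine htd x hxU hxV fun f hf hxb => ?_
    have h1 : ξ ∈ X.basicOpen f := (specializes_iff_mem_closure.2 hx).mem_open (X.basicOpen f).2 hxb
    exact (mem_basicOpen_iff_fromSpec hV _ f).1 h1 (hp.1.2 (Ideal.subset_span hf))
  have hRfin : R.Finite := by
    refine (Devissage.Dim.finite_maximal (hY.inter isClosed_closure)).subset fun x hx => ⟨⟨hx.2.2.1, hx.1⟩, ?_⟩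
    intro z hz hzx
    exact VarDim.Basic.eq_of_pdim_le q hzx
      ((hR0 z hz.2 (hzx.mem_open V.2 hx.2.1) hz.1).trans_le (Nat.zero_le _))
  have hRclosed : IsClosed R := by
    rw [← Set.biUnion_of_singleton R]
    exact hRfin.isClosed_biUnion fun x hx =>
      (VarDim.Basic.pdim_eq_zero_iff q x).1 (hR0 x hx.1 hx.2.1 hx.2.2.1)
  obtain ⟨W₀, hW₀, hPW₀, hW₀le⟩ := exists_isAffineOpen_mem_and_subset
    (U := ι ⁻¹ᵁ (V ⊓ ⟨Rᶜ, hRclosed.isOpen_compl⟩)) (x := P')
    (show ι P' ∈ V ⊓ (⟨Rᶜ, hRclosed.isOpen_compl⟩ : X.Opens) from hP' ▸ ⟨hPV, fun h => h.2.2.2 rfl⟩)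
  have hcore := not_finite_HH k hW (ι ⁻¹ᵁ U) W₀ hW₀ P'
    (by
      rw [show ({P'} : Set W) = ι ⁻¹' {P} by
        ext z; exact ⟨fun h => (show z = P' from h) ▸ hP', fun h => ι.isClosedEmbedding.injective (h.trans hP'.symm)⟩]
      exact hPc.preimage ι.continuous)
    (fun h => hPU (hP' ▸ h)) hPW₀
    (fun x hx => by
      obtain ⟨h1, h2⟩ := hW₀le hx
      by_cases h : ι x ∈ U
      · exact Or.inl h
      · refine Or.inr (ι.isClosedEmbedding.injective ?_)
        by_contra h3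
        exact h2 ⟨hrange.le ⟨x, rfl⟩, h1, h, fun h4 => h3 (h4.trans hP'.symm)⟩)
  -- push forward to `U`
  refine ⟨m, by omega, ?_⟩
  let f : ((ι ⁻¹ᵁ U : W.Opens) : Scheme.{u}) ⟶ (U : Scheme.{u}) := ι ∣_ U
  haveI : IsClosedImmersion f := IsZariskiLocalAtTarget.restrict (P := @IsClosedImmersion) inferInstance U
  haveI : IsLocallyNoetherian (U : Scheme.{u}) := isLocallyNoetherian_of_isOpenImmersion U.ι
  let N := (Coh.structureModule W).restrict (ι ⁻¹ᵁ U).ι
  have hN : Coh.IsCoh N := RefHull.LocFree.isCoh_restrict (Snapper.Twist.isCoh_structureModule W) _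
  haveI : N.IsQuasicoherent := hN.1
  refine ⟨(Coh.push f).obj N, CohDelta.IdealMul.FinPush.isCoh_push f hN, fun hfin => hcore ?_⟩
  haveI := hfin
  exact Module.Finite.equiv (ZarCoh.Linear.affineLinearEquiv f (by
    show (ι ∣_ U) ≫ U.ι ≫ q = (ι ⁻¹ᵁ U).ι ≫ ι ≫ q
    rw [morphismRestrict_ι_assoc]) N (m + 1))

end Groth.Agent.H23.CompleteInt
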