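import Groth.Agent.H23.DepthRestrict.Res
import Groth.Agent.Lib.CohDelta.Open
import Groth.Agent.Lib.Cech.MV

/-!
Base-linear maps between cohomology groups of opens coming from maps in the `HU` model.
-/

set_option autoImplicit false
set_option linter.style.haveILetI false

universe u

open CategoryTheory CategoryTheory.Limits AlgebraicGeometry TopologicalSpace Opposite CategoryTheory.Abelian
open Groth.Agent.Lib Groth.Agent.Lib.ZarCoh Groth.Agent.Lib.ZarCoh.Basic

namespace Groth.Agent.H23.CompleteInt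

variable {A : Type u} [CommRing A] {X : Scheme.{u}} [X.Over (Spec (CommRingCat.of A))] (M : X.Modules)

/-- The action of a scalar on the `HU` model. -/
noncomputable abbrev act (a : A) (n : ℕ) (O : X.Opens) :
    CohTop.HU (X := X.carrier) (Coh.toAb M) n O →+ CohTop.HU (X := X.carrier) (Coh.toAb M) n O :=
  CohTop.HUmap (Coh.smulAb M (Coh.toGlobal (X ↘ Spec (CommRingCat.of A)) a)) n O

variable {U U' : Scheme.{u}} (j : U ⟶ X) [IsOpenImmersion j] (j' : U' ⟶ X) [IsOpenImmersion j']
  [U.Over (Spec (CommRingCat.of A))] [U'.Over (Spec (CommRingCat.of A))]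
  (hj : j ≫ (X ↘ Spec (CommRingCat.of A)) = U ↘ Spec (CommRingCat.of A))
  (hj' : j' ≫ (X ↘ Spec (CommRingCat.of A)) = U' ↘ Spec (CommRingCat.of A))
  {O O' : X.Opens} (hO : j.isOpenEmbedding.functor.obj ⊤ = O) (hO' : j'.isOpenEmbedding.functor.obj ⊤ = O')

/-- `H^n(U, M|_U) = H^n(O, M)`. -/
noncomputable def onEquiv (n : ℕ) :
    Coh.HH U (M.restrict j) n ≃+ CohTop.HU (X := X.carrier) (Coh.toAb M) n O :=
  CohDelta.Open.hOn j.isOpenEmbedding hO (Coh.toAb M) n

include hj in
theorem onEquiv_smul (n : ℕ) (a : A) (x : Coh.HH U (M.restrict j) n) :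
    onEquiv M j hO n (a • x) = act M a n O (onEquiv M j hO n x) := by
  refine Eq.trans (congrArg (onEquiv M j hO n) ?_)
    (CohDelta.Open.hOn_map j.isOpenEmbedding hO
      (Coh.smulAb M (Coh.toGlobal (X ↘ Spec (CommRingCat.of A)) a)) n x)
  show Sheaf.H.map (Coh.smulAb (M.restrict j) (Coh.toGlobal (U ↘ Spec (CommRingCat.of A)) a)) n x = _
  erw [DepthRestrict.rst_smulAb]
  rw [← hj]
  rfl

/-- Transport of a map commuting with the action. -/
noncomputable def conj (n n' : ℕ)
    (φ : CohTop.HU (X := X.carrier) (Coh.toAb M) n O →+ CohTop.HU (X := X.carrier) (Coh.toAb M) n' O')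
    (hφ : ∀ (a : A) x, φ (act M a n O x) = act M a n' O' (φ x)) :
    Coh.HH U (M.restrict j) n →ₗ[A] Coh.HH U' (M.restrict j') n' where
  toFun x := (onEquiv M j' hO' n').symm (φ (onEquiv M j hO n x))
  map_add' x y := by rw [map_add, map_add, map_add]
  map_smul' a x := by
    apply (onEquiv M j' hO' n').injective
    rw [RingHom.id_apply, onEquiv_smul M j' hj' hO', AddEquiv.apply_symm_apply, AddEquiv.apply_symm_apply,
      onEquiv_smul M j hj hO, hφ]

theorem res_act (a : A) (n : ℕ) {O O' : X.Opens} (h : O' ≤ O)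
    (x : CohTop.HU (X := X.carrier) (Coh.toAb M) n O) :
    CohTop.res (Coh.toAb M) n h (act M a n O x) = act M a n O' (CohTop.res (Coh.toAb M) n h x) :=
  (Ext.comp_assoc_of_third_deg_zero _ _ _ (zero_add n)).symm

theorem δ_act (a : A) (n : ℕ) (P Q : X.Opens)
    (x : CohTop.HU (X := X.carrier) (Coh.toAb M) n (P ⊓ Q)) :
    Cech.MV.δ (X := X.carrier) (Coh.toAb M) P Q n (n + 1) rfl (act M a n (P ⊓ Q) x) =
      act M a (n + 1) (P ⊔ Q) (Cech.MV.δ (X := X.carrier) (Coh.toAb M) P Q n (n + 1) rfl x) :=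
  (Ext.comp_assoc _ _ _ (show 1 + n = n + 1 from add_comm 1 n) (add_zero n) (by omega)).symm

end Groth.Agent.H23.CompleteInt
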