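import Groth.Agent.Lib.ProjCI.Cone
import Groth.Agent.Lib.ProjSpace.Dim
import Groth.Agent.Lib.ProjSpace.Basic
import Groth.Agent.Lib.Cech.MV
import Groth.Agent.Lib.ZarCoh.Affine
import Groth.Agent.Lib.ZarCoh.Compare
import Groth.Agent.Lib.Curves.GlobalSections
import Groth.Agent.Lib.Snapper.Twist
import Groth.Agent.Lib.VarDim.Basic
import Mathlib.RingTheory.Artinian.Ring

/-!
Complements of complete intersections in projective space.
-/

set_option autoImplicit false
set_option linter.style.haveILetI false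
set_option maxHeartbeats 1000000

universe u

open CategoryTheory CategoryTheory.Limits AlgebraicGeometry TopologicalSpace Opposite

namespace Groth.Agent.H23.CompleteInt.Proj

open Groth.Agent.Lib

variable {k : Type u} [Field k] {n r : ℕ} {a : Fin r → ℕ} (ha : ∀ j, 1 ≤ a j)
  (G : ∀ j : Fin r, LefPen.Form n k (a j))

/-- The complement of one of the hypersurfaces. -/
noncomputable abbrev D (j : Fin r) : (CohB1.ProjSpace n k).Opens :=
  AlgebraicGeometry.Proj.basicOpen (CohB1.polyGrading n k) (G j).1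

theorem compl_eq (U : (CohB1.ProjSpace n k).Opens)
    (hU : (U : Set (CohB1.ProjSpace n k)) = ((LefPen.ciIdeal G).support : Set (CohB1.ProjSpace n k))ᶜ) :
    U = ⨆ j, D G j := by
  refine Opens.ext (Set.ext fun x => ?_)
  rw [hU, ProjCI.Cone.support_eq G, Set.mem_compl_iff, Opens.coe_iSup, Set.mem_iUnion]
  exact not_forall

/-- Points of a finite intersection of opens. -/
theorem mem_iInf' {T : Type u} [TopologicalSpace T] {ι : Type*} [Finite ι] (f : ι → Opens T) (x : T) :
    x ∈ ⨅ b, f b ↔ ∀ b, x ∈ f b :=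
  ⟨fun h b => (iInf_le f b : _ ≤ f b) h, fun h =>
    (le_iInf fun b y hy => Set.mem_iInter.1 hy b :
      (⟨⋂ b, (f b : Set T), isOpen_iInter_of_finite fun b => (f b).2⟩ : Opens T) ≤ ⨅ b, f b) (Set.mem_iInter.2 h)⟩

include ha in
/-- Finite intersections of the complements are affine. -/
theorem isAffineOpen_iInf {q : ℕ} (i : Fin (q + 1) → Fin r) : IsAffineOpen (⨅ b, D G (i b)) := by
  classical
  have hmem : (∏ b, ((G (i b)).1 : MvPolynomial (Fin (n + 1)) k)) ∈ CohB1.polyGrading n k (∑ b, a (i b)) :=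
    SetLike.prod_mem_graded (A := CohB1.polyGrading n k) _ _ fun b _ => (G (i b)).2
  have heq : (⨅ b, D G (i b)) =
      AlgebraicGeometry.Proj.basicOpen (CohB1.polyGrading n k) (∏ b, ((G (i b)).1 : MvPolynomial (Fin (n + 1)) k)) := by
    refine Opens.ext (Set.ext fun x => ?_)
    rw [SetLike.mem_coe, SetLike.mem_coe, mem_iInf']
    change (∀ b, ((G (i b)).1 : MvPolynomial (Fin (n + 1)) k) ∉ x.asHomogeneousIdeal) ↔
      (∏ b, ((G (i b)).1 : MvPolynomial (Fin (n + 1)) k)) ∉ x.asHomogeneousIdeal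
    refine ⟨fun h h2 => ?_, fun h b h2 => h ?_⟩
    · obtain ⟨b, -, hb⟩ := (Ideal.IsPrime.prod_mem_iff (hp := x.isPrime)).1 h2
      exact h b hb
    · exact Ideal.mem_of_dvd _ (Finset.dvd_prod_of_mem _ (Finset.mem_univ b)) h2
  rw [heq]
  exact AlgebraicGeometry.Proj.isAffineOpen_basicOpen _ _ hmem
    (lt_of_lt_of_le (ha (i 0)) (Finset.single_le_sum (fun b _ => Nat.zero_le (a (i b))) (Finset.mem_univ 0)))

include ha in
/-- Cohomology vanishes in degrees at least the number of equations. -/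
theorem subsingleton_HH (hr : 1 ≤ r) (U : (CohB1.ProjSpace n k).Opens)
    (hU : (U : Set (CohB1.ProjSpace n k)) = ((LefPen.ciIdeal G).support : Set (CohB1.ProjSpace n k))ᶜ)
    (F : (U : Scheme.{u}).Modules) (hF : Coh.IsCoh F) (i : ℕ) (hi : r ≤ i) :
    Subsingleton (Coh.HH (U : Scheme.{u}) F i) := by
  obtain ⟨s, rfl⟩ : ∃ s, r = s + 1 := ⟨r - 1, by omega⟩
  haveI := hF.1
  have hUD := compl_eq G U hU
  have hle : ∀ j, D G j ≤ U := fun j => hUD ▸ le_iSup (D G) j
  let V : Fin (s + 1) → Opens (U : Scheme.{u}).carrier := fun j => U.ι ⁻¹ᵁ D G j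
  have hV : (⨆ j, V j) = ⊤ := by
    refine eq_top_iff.2 fun x _ => ?_
    have hx : U.ι x ∈ ⨆ j, D G j := hUD ▸ x.2
    obtain ⟨j, hj⟩ := Opens.mem_iSup.1 hx
    exact Opens.mem_iSup.2 ⟨j, hj⟩
  have h : Subsingleton (CohTop.HU (X := (U : Scheme.{u}).carrier) (Coh.toAb F) i (⨆ j, V j)) := by
    refine Cech.MV.subsingleton_HU_iSup_fin (X := (U : Scheme.{u}).carrier) (Coh.toAb F) s V (fun q c m => ?_) i hi
    have : (⨅ b, V (c b)) = U.ι ⁻¹ᵁ (⨅ b, D G (c b)) := by
      refine Opens.ext (Set.ext fun x => ?_)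
      show x ∈ ⨅ b, V (c b) ↔ U.ι x ∈ ⨅ b, D G (c b)
      rw [mem_iInf', mem_iInf']
      rfl
    rw [this]
    exact ZarCoh.Affine.HU_subsingleton F
      ((isAffineOpen_iInf ha G c).preimage_of_isOpenImmersion U.ι
        ((iInf_le _ 0).trans ((hle (c 0)).trans U.opensRange_ι.ge))) m
  rw [hV] at h
  exact @Equiv.subsingleton _ _ (ZarCoh.Compare.hTop (Coh.toAb F) i).toEquiv h

/-- An affine open of `P^n`, `n ≥ 1`, has infinite dimensional functions. -/
theorem not_finite_functions (hn : 1 ≤ n) (U : (CohB1.ProjSpace n k).Opens) (hU : IsAffineOpen U)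
    (hne : (U : Set (CohB1.ProjSpace n k)).Nonempty) :
    ¬ Module.Finite k (Coh.HH (U : Scheme.{u}) (Coh.structureModule U) 0) := by
  intro hfin
  haveI := hfin
  haveI : IsAffine (U : Scheme.{u}) := hU
  let R := Γ((U : Scheme.{u}), (⊤ : (U : Scheme.{u}).Opens))
  letI : Algebra k R := (Coh.toGlobal ((U : Scheme.{u}) ↘ Spec (CommRingCat.of k))).toAlgebra
  haveI : Module.Finite k R := by
    letI := Curves.GlobalSections.secModule k (Coh.structureModule (U : Scheme.{u}))
    exact Module.Finite.equiv (Curves.GlobalSections.h0Linear k (Coh.structureModule (U : Scheme.{u})))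
  haveI : IsArtinianRing R := IsArtinianRing.of_finite k R
  let q := CohB1.ProjSpace n k ↘ Spec (CommRingCat.of k)
  haveI := ProjSpace.Basic.isProper_toSpec n k
  haveI : LocallyOfFiniteType q := inferInstanceAs (LocallyOfFiniteType (CohB1.ProjSpace.toSpec n k))
  have h0 : topologicalKrullDim (U : Scheme.{u}) ≤ 0 := by
    rw [((U : Scheme.{u}).isoSpec.hom.homeomorph).isHomeomorph.topologicalKrullDim_eq]
    show topologicalKrullDim (PrimeSpectrum R) ≤ 0
    rw [PrimeSpectrum.topologicalKrullDim_eq_ringKrullDim]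
    exact Ring.krullDimLE_iff.1 inferInstance
  have h1 : (n : WithBot ℕ∞) ≤ topologicalKrullDim (U : Scheme.{u}) := by
    rw [← Groth.Agent.Lib.ProjSpace.Dim.topologicalKrullDim_projSpace_of_field n k, VarDim.Basic.topologicalKrullDim_irreducibleSpace q]
    exact VarDim.Basic.pdim_le_topologicalKrullDim q (T := (U : Set (CohB1.ProjSpace n k))) U.2.isLocallyClosed
      ((((genericPoint_spec _).mem_open_set_iff U.2).2 (hne.imp fun x hx => ⟨trivial, hx⟩)))
  have : (n : WithBot ℕ∞) ≤ 0 := h1.trans h0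
  have : n ≤ 0 := by exact_mod_cast this
  omega

end Groth.Agent.H23.CompleteInt.Proj
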